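import Groth.Agent.SiteBase.SpectralSub.Colim
import Groth.Agent.S0460
import Groth.Agent.SiteBase.Empty
import Mathlib.Topology.Sheaves.MayerVietoris
import Mathlib.CategoryTheory.Sites.SheafCohomology.MayerVietoris
import Mathlib.Topology.KrullDimension

/-!
# Cohomological dimension of spectral spaces
-/

set_option autoImplicit false
set_option linter.unusedSectionVars false
set_option backward.isDefEq.respectTransparency false

universe u

open CategoryTheory CategoryTheory.Limits Opposite TopologicalSpace Topology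
open Groth.Agent.DescentSS.Germ (gm gm_res)

noncomputable section

namespace Groth.Agent.SpectralSub

open CompactSub

theorem spectralSpace_subtype {X : Type*} [TopologicalSpace X] [SpectralSpace X] {A : Set X} (hA : IsCompact A)
    (hgen : StableUnderGeneralization A) : SpectralSpace A := by
  have hi : IsEmbedding (Subtype.val : A → X) := IsEmbedding.subtypeVal
  have himg : ∀ V : Set A, IsOpen V → StableUnderGeneralization (Subtype.val '' V) := by
    rintro V hV x y h ⟨z, hz, rfl⟩
    exact ⟨⟨y, hgen h z.2⟩, ((subtype_specializes_iff _ _).2 h).mem_open hV hz, rfl⟩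
  have : CompactSpace A := isCompact_iff_compactSpace.1 hA
  have : QuasiSeparatedSpace A := ⟨fun U V hU hUc hV hVc => by
    rw [hi.isInducing.isCompact_iff, Set.image_inter hi.injective]
    exact isCompact_inter (hUc.image continuous_subtype_val) (himg U hU) (hVc.image continuous_subtype_val) (himg V hV)⟩
  have : PrespectralSpace A := ⟨TopologicalSpace.isTopologicalBasis_of_isOpen_of_nhds (fun U hU => hU.1)
    fun z V hz hV => by
      obtain ⟨W, hW, rfl⟩ := isOpen_induced_iff.1 hV
      obtain ⟨C, ⟨hC, hCc⟩, hzC, hCW⟩ :=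
        (PrespectralSpace.isTopologicalBasis (X := X)).exists_subset_of_mem_open hz hW
      refine ⟨Subtype.val ⁻¹' C, ⟨hC.preimage continuous_subtype_val, ?_⟩, hzC, fun y hy => hCW hy⟩
      rw [hi.isInducing.isCompact_iff, Set.image_preimage_eq_inter_range, Subtype.range_coe]
      exact isCompact_inter hCc hC.stableUnderGeneralization hA hgen⟩
  have : QuasiSober A := ⟨fun {S} hS hSc => by
    obtain ⟨η, hη⟩ := QuasiSober.sober (hS.image _ continuous_subtype_val.continuousOn).closure isClosed_closure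
    obtain ⟨s, hs⟩ := hS.nonempty
    refine ⟨⟨η, hgen (hη.specializes (subset_closure ⟨s, hs, rfl⟩)) s.2⟩, ?_⟩
    show closure _ = S
    rw [hi.closure_eq_preimage_closure_image, Set.image_singleton]
    show Subtype.val ⁻¹' closure {η} = S
    rw [hη, ← hi.closure_eq_preimage_closure_image, hSc.closure_eq]⟩
  exact { }

variable {X : TopCat.{u}}

/-- Gluing classes along two opens. -/
theorem exists_glue (F : CohTop.Ab X) (n : ℕ) (U V W : Opens X) (hU : U ≤ W) (hV : V ≤ W) (hW : W ≤ U ⊔ V)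
    (ξ : CohTop.HU F n U) (h : CohTop.res F n (inf_le_left : U ⊓ V ≤ U) ξ = 0) :
    ∃ η : CohTop.HU F n W, CohTop.res F n hU η = ξ := by
  obtain rfl : W = U ⊔ V := le_antisymm hW (sup_le hU hV)
  let S := Opens.mayerVietorisSquare U V
  have hex := (S.sequence_exact F n (n + 1) rfl).exact 0
  obtain ⟨η, hη⟩ := (ShortComplex.ab_exact_iff _).1 hex
    ((AddCommGrpCat.biprodIsoProd _ _).inv ⟨ξ, 0⟩) (by
      show S.fromBiprod F n _ = 0
      rw [S.fromBiprod_biprodIsoProd_inv_apply F ξ 0, map_zero, sub_zero]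
      exact h)
  refine ⟨η, ?_⟩
  exact congrArg Prod.fst ((AddCommGrpCat.biprodIsoProd _ _).addCommGroupIsoToAddEquiv.symm.injective
    ((S.toBiprod_apply F η).symm.trans hη))

/-- Classes vanishing on two opens vanish on the union, given surjectivity one degree below. -/
theorem eq_zero_of_res (F : CohTop.Ab X) (n : ℕ) (U V W : Opens X) (hU : U ≤ W) (hV : V ≤ W) (hW : W ≤ U ⊔ V)
    (hs : Function.Surjective (CohTop.res F n (inf_le_left : U ⊓ V ≤ U)))
    (ζ : CohTop.HU F (n + 1) W) (h₁ : CohTop.res F (n + 1) hU ζ = 0) (h₂ : CohTop.res F (n + 1) hV ζ = 0) :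
    ζ = 0 := by
  obtain rfl : W = U ⊔ V := le_antisymm hW (sup_le hU hV)
  let S := Opens.mayerVietorisSquare U V
  have hex := (S.sequence_exact F n (n + 1) rfl).exact 2
  obtain ⟨c, hc⟩ := (ShortComplex.ab_exact_iff _).1 hex ζ (by
    show S.toBiprod F (n + 1) ζ = 0
    rw [S.toBiprod_apply F ζ,
      show ((Sheaf.cohomologyPresheaf F (n + 1)).map S.f₂₄.op) ζ = 0 from h₁,
      show ((Sheaf.cohomologyPresheaf F (n + 1)).map S.f₃₄.op) ζ = 0 from h₂]
    exact map_zero _)
  obtain ⟨a, rfl⟩ := hs c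
  have e : S.fromBiprod F n ((AddCommGrpCat.biprodIsoProd _ _).inv ⟨a, 0⟩) = CohTop.res F n inf_le_left a := by
    rw [S.fromBiprod_biprodIsoProd_inv_apply F a 0, map_zero, sub_zero]
    rfl
  rw [← hc]
  show S.δ F n (n + 1) rfl (CohTop.res F n inf_le_left a) = 0
  rw [← e, ← ConcreteCategory.comp_apply, S.fromBiprod_δ]
  rfl

/-- Every chain of irreducible closed subsets has length below `d`. -/
def DimLT (T : Type*) [TopologicalSpace T] (d : ℕ) : Prop := ∀ l : LTSeries (IrreducibleCloseds T), l.length < d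

theorem dimLT_succ {T : Type*} [TopologicalSpace T] {d : ℕ} (h : topologicalKrullDim T ≤ d) : DimLT T (d + 1) :=
  fun l => by
    have h1 : (l.length : WithBot ℕ∞) ≤ (d : WithBot ℕ∞) := (Order.LTSeries.length_le_krullDim l).trans h
    exact Nat.lt_succ_of_le (by exact_mod_cast h1)

variable [SpectralSpace X]

omit [SpectralSpace X] in
theorem subsingleton_H_of_isEmpty [IsEmpty X] (F : CohTop.Ab X) (p : ℕ) : Subsingleton (CohTop.H F p) := by
  have hF : IsZero F := (IsZero.iff_id_eq_zero F).2 (Sheaf.hom_ext (NatTrans.ext (funext fun U =>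
    AddCommGrpCat.ext fun t => sec_ext (W := U.unop) _ _ fun x => isEmptyElim x)))
  refine ⟨fun a b => ?_⟩
  have h : ∀ a : CohTop.H F p, a = 0 := fun a => by
    rw [← Abelian.Ext.comp_mk₀_id a, hF.eq_of_src (𝟙 F) 0, Abelian.Ext.mk₀_zero, Abelian.Ext.comp_zero]
  rw [h a, h b]

omit [SpectralSpace X] in
theorem eq_zero_of_bot (F : CohTop.Ab X) (n : ℕ) (t : CohTop.HU F n (⊥ : Opens X)) : t = 0 := by
  have := SiteBase.subsingleton_HU_of_bot_mem (J := Opens.grothendieckTopology X) (U := (⊥ : Opens X))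
    (fun x hx => hx.elim) F n
  exact Subsingleton.elim _ _

theorem dimLT_gen {d : ℕ} (hd : DimLT X (d + 1)) {U W : Opens X} (hUW : U ≤ W) :
    DimLT ({x : X | ∃ e ∈ (W : Set X) \ (U : Set X), e ∈ closure {x}} ∩ (U : Set X) : Set X) d := by
  intro l
  let A : Set X := {x : X | ∃ e ∈ (W : Set X) \ (U : Set X), e ∈ closure {x}} ∩ (U : Set X)
  let m := l.map _ (IrreducibleCloseds.map_strictMono_of_isInducing (f := (Subtype.val : A → X)) IsInducing.subtypeVal)
  have hirr : IsIrreducible (closure (Subtype.val '' (l.head : Set A))) :=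
    (l.head.isIrreducible.image _ continuous_subtype_val.continuousOn).closure
  obtain ⟨η, hη⟩ := QuasiSober.sober hirr isClosed_closure
  obtain ⟨a, ha⟩ := l.head.isIrreducible.nonempty
  have haη : η ⤳ a.1 := hη.specializes (subset_closure ⟨a, ha, rfl⟩)
  obtain ⟨⟨z, hz, hza⟩, haU⟩ := a.2
  have hηz : η ⤳ z := haη.trans (specializes_iff_mem_closure.2 hza)
  let C : IrreducibleCloseds X := ⟨closure {z}, isIrreducible_singleton.closure, isClosed_closure⟩
  have hlt : C < m.head := by
    refine lt_of_le_of_ne ?_ fun e => ?_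
    · show closure {z} ⊆ closure (Subtype.val '' (l.head : Set A))
      rw [← hη]
      exact closure_minimal (Set.singleton_subset_iff.2 hηz.mem_closure) isClosed_closure
    · have ha' : a.1 ∈ closure {z} := by
        rw [show closure {z} = ((m.head : IrreducibleCloseds X) : Set X) from congrArg SetLike.coe e]
        exact subset_closure ⟨a, ha, rfl⟩
      exact hz.2 ((specializes_iff_mem_closure.2 ha').mem_open U.2 haU)
  have h := hd (m.cons C hlt)
  have e : (m.cons C hlt).length = l.length + 1 := by simp [m]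
  omega

/-- The induction hypothesis on dimension. -/
def Vanish (d : ℕ) : Prop :=
  ∀ (Z : TopCat.{u}) [SpectralSpace Z] (G : CohTop.Ab Z) (q : ℕ), DimLT Z d → d ≤ q → Subsingleton (CohTop.H G q)

theorem exists_map_eq_zero {J : Type u} [SmallCategory J] [IsFiltered J] (D : J ⥤ AddCommGrpCat.{u})
    {T : AddCommGrpCat.{u}} (e : colimit D ≅ T) (hT : Subsingleton T) (j : J) (x : D.obj j) :
    ∃ (k : J) (f : j ⟶ k), D.map f x = 0 := by
  have h : colimit.ι D j x = colimit.ι D j 0 := e.addCommGroupIsoToAddEquiv.injective (Subsingleton.elim _ _)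
  obtain ⟨k, f, g, hfg⟩ := (Concrete.colimit_rep_eq_iff_exists D x 0).1 h
  exact ⟨k, f, hfg.trans (map_zero _)⟩

theorem surjective_res {d : ℕ} (hv : Vanish.{u} d) (hd : DimLT X (d + 1)) (F : CohTop.Ab X) {U W : Opens X}
    (hUW : U ≤ W) (hU : IsCompact (U : Set X)) (hW : IsCompact (W : Set X)) (q : ℕ) (hq : d ≤ q) :
    Function.Surjective (CohTop.res F q hUW) := by
  intro ξ
  let Z : Set X := (W : Set X) \ (U : Set X)
  have hZ : IsCompact Z := hW.diff U.2
  let G : Set X := {x : X | ∃ e ∈ Z, e ∈ closure {x}}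
  let A : Set X := G ∩ (U : Set X)
  have hGc : IsCompact G := isCompact_generalizations hZ
  have hGg : StableUnderGeneralization G := stableUnderGeneralization_generalizations Z
  have hAc : IsCompact A := isCompact_inter hGc hGg hU U.2.stableUnderGeneralization
  have hAg : StableUnderGeneralization A := stableUnderGeneralization_inter hGg U.2.stableUnderGeneralization
  have : SpectralSpace (TopCat.of A) := spectralSpace_subtype hAc hAg
  have hsub : Subsingleton (CohTop.H ((CohTop.pull (incl A)).obj F) q) :=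
    hv (TopCat.of A) _ q (dimLT_gen hd hUW) hq
  obtain ⟨e⟩ := nonempty_colim_cohomology_nbhd hAc hAg F q
  obtain ⟨M, f, hfg⟩ := exists_map_eq_zero
    ((Nbhd A).ι ⋙ (Sheaf.cohomologyPresheafFunctor (Opens.grothendieckTopology X) q).obj F) e hsub
    (⟨op U, Set.inter_subset_right⟩ : (Nbhd A).FullSubcategory) ξ
  have hMU : M.obj.unop ≤ U := leOfHom ((Nbhd A).ι.map f).unop
  obtain ⟨O, hO, hOU⟩ := exists_coNhd_inter_subset hGc hGg ⟨U.2, hU⟩ M.obj.unop.2
    (show G ∩ (U : Set X) ⊆ M.obj.unop from M.property)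
  let O' : Opens X := ⟨O, hO.1⟩ ⊓ W
  have hle : U ⊓ O' ≤ M.obj.unop := fun x hx => hOU ⟨hx.2.1, hx.1⟩
  refine exists_glue F q U O' W hUW inf_le_right (fun x hx => ?_) ξ ?_
  · rcases em (x ∈ U) with h | h
    · exact Or.inl h
    · exact Or.inr ⟨hO.2.2 ⟨x, ⟨hx, h⟩, subset_closure rfl⟩, hx⟩
  · have h1 : CohTop.res F q hMU ξ = 0 := hfg
    have h2 := congrArg (CohTop.res F q hle) h1
    rw [map_zero] at h2
    refine Eq.trans ?_ h2
    exact ConcreteCategory.congr_hom
      ((Sheaf.cohomologyPresheaf F q).map_comp (homOfLE hMU).op (homOfLE hle).op) ξ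

theorem eq_zero_of_cover {d : ℕ} (hv : Vanish.{u} d) (hd : DimLT X (d + 1)) (F : CohTop.Ab X) {W : Opens X}
    (hW : IsCompact (W : Set X)) (q : ℕ) (hq : d ≤ q) (ξ : CohTop.HU F (q + 1) W) : ξ = 0 := by
  classical
  obtain ⟨ι, V, hV, hVW, hξ⟩ := Groth.Agent.S0460.result F W q ξ
  have key : ∀ x : W, ∃ (O : Opens X) (hO : O ≤ W), IsCompact (O : Set X) ∧ x.1 ∈ O ∧ CohTop.res F (q + 1) hO ξ = 0 := by
    intro x
    obtain ⟨i, hi⟩ := Opens.mem_iSup.1 (show x.1 ∈ iSup V by rw [hVW]; exact x.2)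
    obtain ⟨C, ⟨hC, hCc⟩, hxC, hCV⟩ :=
      (PrespectralSpace.isTopologicalBasis (X := X)).exists_subset_of_mem_open hi (V i).2
    have hle : (⟨C, hC⟩ : Opens X) ≤ V i := hCV
    refine ⟨⟨C, hC⟩, hle.trans (hV i), hCc, hxC, ?_⟩
    have h2 := congrArg (CohTop.res F (q + 1) hle) (hξ i)
    rw [map_zero] at h2
    refine Eq.trans ?_ h2
    exact ConcreteCategory.congr_hom
      ((Sheaf.cohomologyPresheaf F (q + 1)).map_comp (homOfLE (hV i)).op (homOfLE hle).op) ξ
  choose O hOW hOc hxO hOξ using key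
  obtain ⟨s, hs⟩ := hW.elim_finite_subcover (fun x => (O x : Set X)) (fun x => (O x).2)
    fun x hx => Set.mem_iUnion.2 ⟨⟨x, hx⟩, hxO _⟩
  suffices H : ∀ s : Finset W, ∀ (W' : Opens X) (h' : W' ≤ W), IsCompact (W' : Set X) →
      (W' : Set X) ⊆ ⋃ x ∈ s, (O x : Set X) → CohTop.res F (q + 1) h' ξ = 0 by
    have h := H s W le_rfl hW hs
    refine Eq.trans ?_ h
    exact (ConcreteCategory.congr_hom ((Sheaf.cohomologyPresheaf F (q + 1)).map_id (op W)) ξ).symm
  have resres : ∀ {A B : Opens X} (hA : A ≤ B) (hB : B ≤ W),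
      CohTop.res F (q + 1) (hA.trans hB) ξ = CohTop.res F (q + 1) hA (CohTop.res F (q + 1) hB ξ) := fun hA hB =>
    ConcreteCategory.congr_hom
      ((Sheaf.cohomologyPresheaf F (q + 1)).map_comp (homOfLE hB).op (homOfLE hA).op) ξ
  have mono : ∀ {A B : Opens X} (hA : A ≤ B) (hB : B ≤ W), CohTop.res F (q + 1) hB ξ = 0 →
      CohTop.res F (q + 1) (hA.trans hB) ξ = 0 := fun hA hB h => by
    rw [resres hA hB, h, map_zero]
  intro s
  induction s using Finset.induction with
  | empty =>
    intro W' h' _ hsub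
    obtain rfl : W' = ⊥ := Opens.ext (Set.subset_empty_iff.1 (fun x hx => by simpa using hsub hx))
    exact mono (A := ⊥) (B := ⊥) le_rfl bot_le (eq_zero_of_bot F (q + 1) _)
  | insert a s _ ih =>
    intro W' h' hW' hsub
    let B : Opens X := ⨆ x : {x // x ∈ s}, O x.1
    have hBc : IsCompact (B : Set X) := by
      rw [Opens.coe_iSup]
      exact isCompact_iUnion fun x => hOc x.1
    have hBW : B ≤ W := iSup_le fun x => hOW x.1
    have hAW : O a ⊔ B ≤ W := sup_le (hOW a) hBW
    have hle : W' ≤ O a ⊔ B := fun x hx => by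
      have h := hsub hx
      rw [Finset.set_biUnion_insert] at h
      rcases h with h | h
      · exact Or.inl h
      · obtain ⟨y, hy, hxy⟩ := Set.mem_iUnion₂.1 h
        exact Or.inr (Opens.mem_iSup.2 ⟨⟨y, hy⟩, hxy⟩)
    have hBξ : CohTop.res F (q + 1) hBW ξ = 0 := ih B hBW hBc (fun x hx => by
      obtain ⟨y, hy⟩ := Opens.mem_iSup.1 hx
      exact Set.mem_iUnion₂.2 ⟨y.1, y.2, hy⟩)
    refine mono hle hAW ?_
    refine eq_zero_of_res F q (O a) B (O a ⊔ B) le_sup_left le_sup_right le_rfl
      (surjective_res hv hd F inf_le_left (QuasiSeparatedSpace.inter_isCompact _ _ (O a).2 (hOc a) B.2 hBc) (hOc a) q hq)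
      _ ?_ ?_
    · exact (resres le_sup_left hAW).symm.trans (hOξ a)
    · exact (resres le_sup_right hAW).symm.trans hBξ

theorem vanish : ∀ d : ℕ, Vanish.{u} d := by
  intro d
  induction d with
  | zero =>
    intro Z _ G q hd _
    have : IsEmpty Z := ⟨fun x => Nat.not_lt_zero _
      (hd (RelSeries.singleton _ ⟨closure {x}, isIrreducible_singleton.closure, isClosed_closure⟩))⟩
    exact subsingleton_H_of_isEmpty G q
  | succ d ih =>
    intro Z _ G q hd hq
    obtain ⟨p, rfl⟩ := Nat.exists_eq_add_of_le' (show 1 ≤ q by omega)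
    refine SiteBase.subsingleton_H_of_HU_terminal isTerminalTop G (p + 1) ⟨fun a b => ?_⟩
    have h := fun c => eq_zero_of_cover ih hd G (W := ⊤) isCompact_univ p (by omega) c
    rw [h a, h b]

end Groth.Agent.SpectralSub
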