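import Groth.Agent.SiteBase.SpectralSub.Extend
import Groth.Agent.S0493
import Groth.Agent.S0901

/-!
# Inverse images of flasque sheaves to generalisation stable compact subspaces are acyclic
-/

set_option autoImplicit false
set_option linter.unusedSectionVars false
set_option backward.isDefEq.respectTransparency false

universe u

open CategoryTheory CategoryTheory.Limits Opposite TopologicalSpace Topology
open Groth.Agent.DescentSS.Germ (gm gm_res)

noncomputable section

namespace Groth.Agent.SpectralSub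

open CompactSub

variable {X Z : TopCat.{u}} [SpectralSpace X] {i : Z ⟶ X} (hi : IsEmbedding i)
  (hgen : StableUnderGeneralization (Set.range i)) (hA : IsCompact (Set.range i))

include hi hgen in
lemma stableUnderGeneralization_image (V : Opens Z) : StableUnderGeneralization (i '' (V : Set Z)) := by
  rintro x y h ⟨z, hz, rfl⟩
  obtain ⟨z', rfl⟩ := hgen h ⟨z, rfl⟩
  exact ⟨z', (hi.isInducing.specializes_iff.1 h).mem_open V.2 hz, rfl⟩

include hi hgen in
lemma isCompact_inf {V V' : Opens Z} (h : IsCompact (V : Set Z)) (h' : IsCompact (V' : Set Z)) :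
    IsCompact ((V ⊓ V' : Opens Z) : Set Z) := by
  rw [hi.isInducing.isCompact_iff]
  rw [show i '' ((V ⊓ V' : Opens Z) : Set Z) = i '' (V : Set Z) ∩ i '' (V' : Set Z) from
    Set.image_inter hi.injective]
  exact isCompact_inter (h.image i.hom.continuous) (stableUnderGeneralization_image hi hgen V)
    (h'.image i.hom.continuous) (stableUnderGeneralization_image hi hgen V')

include hi hgen hA in
lemma isBasis_compact : Opens.IsBasis {V : Opens Z | IsCompact (V : Set Z)} := by
  rw [Opens.isBasis_iff_nbhd]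
  intro V z hz
  obtain ⟨W, hW, hWV⟩ := hi.isInducing.isOpen_iff.1 V.2
  obtain ⟨C, ⟨hC, hCc⟩, hzC, hCW⟩ := (PrespectralSpace.isTopologicalBasis (X := X)).exists_subset_of_mem_open
    (show i z ∈ W by rw [← Set.mem_preimage, hWV]; exact hz) hW
  refine ⟨⟨i ⁻¹' C, hC.preimage i.hom.continuous⟩, ?_, hzC, ?_⟩
  · show IsCompact (i ⁻¹' C)
    rw [hi.isInducing.isCompact_iff, Set.image_preimage_eq_inter_range]
    exact isCompact_inter hCc hC.stableUnderGeneralization hA hgen
  · intro y hy
    show y ∈ V.carrier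
    rw [← hWV]
    exact hCW hy

include hi hgen in
theorem surjective_restrict (Q : CohTop.Ab X) [TopCat.Sheaf.IsFlasque Q] {V U : Opens Z} (hVU : V ≤ U)
    (hV : IsCompact (V : Set Z)) :
    Function.Surjective (((CohTop.pull i).obj Q).obj.map (homOfLE hVU).op).hom := fun s => by
  obtain ⟨ψ, hψ, hψφ⟩ := exists_transfer hi Q (V : Set Z) (fun a => gm _ a.1 a.2 s)
    (fun a => ⟨V, a.2, s, fun b _ => rfl⟩)
  obtain ⟨W, hW, t, ht⟩ := extends_of_isLoc (hV.image i.hom.continuous)
    (stableUnderGeneralization_image hi hgen V) ψ hψ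
  obtain ⟨t', ht'⟩ := exists_flasque_extension Q t
  refine ⟨(((CohTop.pull i).obj Q).obj.map (homOfLE (le_top : U ≤ (Opens.map i).obj ⊤)).op).hom (etaSec Q t'),
    sec_ext _ _ fun z hz => ?_⟩
  refine (gm_res _ hVU z hz _).trans ((gm_res _ le_top z (hVU hz) (etaSec Q t')).trans ?_)
  refine Eq.trans ?_ (hψφ ⟨z, hz⟩)
  rw [ht ⟨i z, Set.mem_image_of_mem i hz⟩, ← ht' (i z) _, theta_gm]
  rfl

include hi hgen in
lemma isCompact_iInf {ι : Type*} (U : ι → Opens Z) (hU : ∀ k, IsCompact (U k : Set Z)) :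
    ∀ (p : ℕ) (a : Fin (p + 1) → ι), IsCompact ((⨅ j, U (a j) : Opens Z) : Set Z) := by
  intro p
  induction p with
  | zero =>
    intro a
    rw [show (⨅ j, U (a j)) = U (a 0) from le_antisymm (iInf_le _ 0)
      (le_iInf fun j => by rw [Fin.fin_one_eq_zero j])]
    exact hU _
  | succ p ih =>
    intro a
    rw [show (⨅ j, U (a j)) = U (a 0) ⊓ ⨅ j : Fin (p + 1), U (a j.succ) from
      le_antisymm (le_inf (iInf_le _ 0) (le_iInf fun j => iInf_le (fun j => U (a j)) j.succ))
        (le_iInf fun j => by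
          rcases Fin.eq_zero_or_eq_succ j with rfl | ⟨j, rfl⟩
          · exact inf_le_left
          · exact inf_le_right.trans (iInf_le (fun j => U (a (Fin.succ j))) j))]
    exact isCompact_inf hi hgen (hU _) (ih _)

include hi hgen hA in
theorem subsingleton_H_pull_flasque (Q : CohTop.Ab X) [TopCat.Sheaf.IsFlasque Q] (n : ℕ) :
    Subsingleton (CohTop.H ((CohTop.pull i).obj Q) (n + 1)) := by
  have : CompactSpace Z := by
    rw [← isCompact_univ_iff, hi.isInducing.isCompact_iff, Set.image_univ]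
    exact hA
  refine SiteBase.subsingleton_H_of_HU_terminal isTerminalTop _ (n + 1) ?_
  refine Groth.Agent.S0493.result ((CohTop.pull i).obj Q) {V : Opens Z | IsCompact (V : Set Z)}
    (isBasis_compact hi hgen hA) (fun ι V => Finite ι ∧ ∀ k, IsCompact (V k : Set Z)) ?_ ?_ ?_ ⊤ isCompact_univ n
  · rintro ι V ⟨hι, hV⟩
    refine ⟨?_, fun p a => isCompact_iInf hi hgen V hV p a⟩
    show IsCompact ((iSup V : Opens Z) : Set Z)
    rw [Opens.coe_iSup]
    exact isCompact_iUnion hV
  · intro U hU κ W hW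
    have key : ∀ x : U, ∃ (k : κ) (V : Opens Z), IsCompact (V : Set Z) ∧ x.1 ∈ V ∧ V ≤ W k := fun x => by
      obtain ⟨k, hk⟩ := Opens.mem_iSup.1 (show x.1 ∈ iSup W by rw [hW]; exact x.2)
      obtain ⟨V, hV, hxV, hVW⟩ := Opens.isBasis_iff_nbhd.1 (isBasis_compact hi hgen hA) hk
      exact ⟨k, V, hV, hxV, hVW⟩
    choose k V hVc hxV hVW using key
    obtain ⟨s, hs⟩ := (show IsCompact (U : Set Z) from hU).elim_finite_subcover (fun x => (V x : Set Z))
      (fun x => (V x).2) fun x hx => Set.mem_iUnion.2 ⟨⟨x, hx⟩, hxV _⟩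
    refine ⟨{x // x ∈ s}, fun x => V x.1, ⟨inferInstance, fun x => hVc x.1⟩, le_antisymm ?_ ?_, fun x => ⟨k x.1, hVW x.1⟩⟩
    · exact iSup_le fun x => (hVW x.1).trans ((le_iSup W _).trans hW.le)
    · intro x hx
      obtain ⟨y, hy, hxy⟩ := Set.mem_iUnion₂.1 (hs hx)
      exact Opens.mem_iSup.2 ⟨⟨y, hy⟩, hxy⟩
  · rintro ι V ⟨hι, hV⟩ p
    refine Groth.Agent.S0901.result _ V (fun κ a => surjective_restrict hi hgen Q _ ?_) p
    have hfin : (Set.range fun k => ⨅ j, V ((a k).2 j)).Finite := by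
      refine ((Set.finite_univ (α := Set ι)).image fun S => ⨅ x ∈ S, V x).subset ?_
      rintro _ ⟨k, rfl⟩
      exact ⟨Set.range (a k).2, trivial, iInf_range⟩
    rw [show (⨆ k, ⨅ j, V ((a k).2 j)) = sSup (Set.range fun k => ⨅ j, V ((a k).2 j)) from rfl, Opens.coe_sSup]
    exact hfin.isCompact_biUnion fun W ⟨k, hk⟩ => hk ▸ isCompact_iInf hi hgen V hV _ _

end Groth.Agent.SpectralSub
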