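import Groth.Agent.SiteBase.CompactSub.ProperStalk
import Groth.Agent.SiteBase.SpectralSub.Acyclic
import Mathlib.CategoryTheory.Filtered.Final
import Mathlib.Topology.Spectral.Hom

/-!
# Cohomology of generalisation stable compact subspaces of spectral spaces
-/

set_option autoImplicit false
set_option linter.unusedSectionVars false
set_option backward.isDefEq.respectTransparency false

universe u

open CategoryTheory CategoryTheory.Limits Opposite TopologicalSpace Topology
open Groth.Agent.DescentSS.Germ (gm gm_res)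

noncomputable section

namespace Groth.Agent.SpectralSub

open CompactSub

section Cmp

variable {X : TopCat.{u}} {A : Set X} {Z : TopCat.{u}} (i : Z ⟶ X) (hiA : ∀ z, i z ∈ A) (hA : A ⊆ Set.range i)

include hA in
theorem bijective_cmp (hi : IsEmbedding i)
    (hext : ∀ (F : CohTop.Ab X) (φ : ∀ a : A, CohTop.stalk F a.1), IsLoc F φ → Extends F φ) (F : CohTop.Ab X) :
    Function.Bijective ((cmp i hiA).app F).hom := by
  constructor
  · intro a b hab
    obtain ⟨U, t, rfl⟩ := Concrete.colimit_exists_rep ((Nbhd A).ι ⋙ F.obj) a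
    obtain ⟨V, t', rfl⟩ := Concrete.colimit_exists_rep ((Nbhd A).ι ⋙ F.obj) b
    obtain ⟨M, h₁, h₂, hAM, e⟩ := exists_nhds_eq (F := F) U.property V.property t t' fun x hx => by
      obtain ⟨z, rfl⟩ := hA hx
      exact (phi_cmp i hiA hi F U t z).symm.trans
        ((congrArg (fun s => phi hi.isInducing F s z (Opens.mem_top z)) hab).trans (phi_cmp i hiA hi F V t' z))
    let W : (Nbhd A).FullSubcategory := ⟨op M, hAM⟩
    refine (ConcreteCategory.congr_hom (colimit.w ((Nbhd A).ι ⋙ F.obj)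
      (ObjectProperty.homMk (homOfLE h₁).op : U ⟶ W)) t).symm.trans ?_
    refine Eq.trans ?_ (ConcreteCategory.congr_hom (colimit.w ((Nbhd A).ι ⋙ F.obj)
      (ObjectProperty.homMk (homOfLE h₂).op : V ⟶ W)) t')
    exact congrArg (colimit.ι ((Nbhd A).ι ⋙ F.obj) W).hom e
  · intro s
    have key : ∀ x : A, ∃ v : CohTop.stalk F x.1, ∀ (z : Z) (e : i z = x.1),
        e ▸ phi hi.isInducing F s z (Opens.mem_top z) = v := by
      rintro ⟨x, hx⟩
      obtain ⟨z, rfl⟩ := hA hx
      refine ⟨phi hi.isInducing F s z (Opens.mem_top z), fun z' e => ?_⟩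
      obtain rfl : z' = z := hi.injective e
      rfl
    choose ψ hψ using key
    obtain ⟨W, hW, t, ht⟩ := hext F ψ fun a => by
      obtain ⟨_, hx⟩ := a
      obtain ⟨z, rfl⟩ := hA hx
      obtain ⟨U, hzU, t, -, ht⟩ := phi_loc hi.isInducing F s z (Opens.mem_top z)
      refine ⟨U, hzU, t, fun b hb => ?_⟩
      obtain ⟨_, hb'⟩ := b
      obtain ⟨z', rfl⟩ := hA hb'
      exact (hψ ⟨i z', hb'⟩ z' rfl).symm.trans (ht z' hb (Opens.mem_top z'))
    refine ⟨(colimit.ι ((Nbhd A).ι ⋙ F.obj) ⟨op W, hW⟩).hom t, phi_ext hi.isInducing F _ _ fun z _ => ?_⟩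
    refine (phi_cmp i hiA hi F ⟨op W, hW⟩ t z).trans ?_
    exact (ht ⟨i z, hiA z⟩).symm.trans (hψ ⟨i z, hiA z⟩ z rfl).symm

/-- Cohomology of the inverse image as a derived functor on the space. -/
theorem nonempty_rightDerived_pullSec
    (hac : ∀ (Q : CohTop.Ab X) [Injective Q] (n : ℕ), Subsingleton (CohTop.H ((CohTop.pull i).obj Q) (n + 1)))
    (F : CohTop.Ab X) (q : ℕ) :
    Nonempty (((pullSec i).rightDerived q).obj F ≅ AddCommGrpCat.of (CohTop.H ((CohTop.pull i).obj F) q)) := by
  obtain ⟨e⟩ := SiteBase.nonempty_rightDerived_precomp_of_acyclic (CohTop.pull i) (DescentSS.secFun Z ⊤)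
    (fun Q hQ j => by
      haveI := hQ
      haveI := hac Q j
      exact IsZero.of_iso (AddCommGrpCat.isZero_of_subsingleton _)
        (DescentSS.nonempty_rightDerived_secFun_iso ((CohTop.pull i).obj Q) (j + 1)).some) q
  exact ⟨e.app F ≪≫ (DescentSS.nonempty_rightDerived_secFun_iso _ q).some⟩

end Cmp

section Fibre

variable {X Y Z : TopCat.{u}}

/-- The cocone of neighbourhoods of a point onto global sections, for a map constant at the point. -/
def genCocone (g : Z ⟶ Y) (y : Y) (hg : ∀ z, g z ⤳ y) (G : CohTop.Ab Z) :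
    Cocone ((OpenNhds.inclusion y).op ⋙ ((CohTop.push g).obj G).obj) where
  pt := (DescentSS.secFun Z ⊤).obj G
  ι :=
    { app := fun V => G.obj.map (homOfLE (fun z _ => by
        show g z ∈ V.unop.1
        exact (hg z).mem_open V.unop.1.2 V.unop.2 :
        (⊤ : Opens Z) ≤ (Opens.map g).obj V.unop.1)).op
      naturality := fun V W k => by
        show G.obj.map _ ≫ G.obj.map _ = G.obj.map _ ≫ 𝟙 _
        rw [Category.comp_id, ← G.obj.map_comp]
        rfl }

/-- Stalks of constant direct images map to global sections. -/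
def genStalk (g : Z ⟶ Y) (y : Y) (hg : ∀ z, g z ⤳ y) :
    CohTop.push g ⋙ ClosedEmb.stalkF y ⟶ DescentSS.secFun Z ⊤ where
  app G := colimit.desc _ (genCocone g y hg G)
  naturality G G' φ := colimit.hom_ext fun V => by
    refine (ι_colimMap_assoc (Functor.whiskerLeft (OpenNhds.inclusion y).op ((CohTop.push g).map φ).hom) V _).trans ?_
    refine (congrArg (_ ≫ ·) (colimit.ι_desc (genCocone g y hg G') V)).trans ?_
    refine Eq.trans ?_ (colimit.ι_desc_assoc (genCocone g y hg G) V _).symm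
    exact (φ.hom.naturality _).symm

variable (i : Z ⟶ X) (f : X ⟶ Y) (y : Y) (hy : ∀ z, f (i z) ⤳ y)

/-- The base change map to the fibre. -/
def bcGen : CohTop.push f ⋙ ClosedEmb.stalkF y ⟶ pullSec i :=
  Functor.whiskerRight (TopCat.Sheaf.pullbackPushforwardAdjunction AddCommGrpCat.{u} i).unit
      (CohTop.push f ⋙ ClosedEmb.stalkF y) ≫
    Functor.whiskerLeft (CohTop.pull i) (genStalk (i ≫ f) y hy)

lemma phi_bcGen (hi : IsEmbedding i) (F : CohTop.Ab X) {V : Opens Y} (hV : y ∈ V)
    (t : F.obj.obj (op ((Opens.map f).obj V))) (z : Z) :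
    phi hi.isInducing F (((bcGen i f y hy).app F).hom (gm ((CohTop.push f).obj F) y hV t)) z (Opens.mem_top z) =
      gm F (i z) ((hy z).mem_open V.2 hV) t := by
  have h1 := stMap_gm ((CohTop.push f).map
    ((TopCat.Sheaf.pullbackPushforwardAdjunction AddCommGrpCat.{u} i).unit.app F)) y hV t
  refine (congrArg (fun s => phi hi.isInducing F s z (Opens.mem_top z))
    ((congrArg ((genStalk (i ≫ f) y hy).app ((CohTop.pull i).obj F)).hom h1).trans
      (ConcreteCategory.congr_hom (colimit.ι_desc (genCocone (i ≫ f) y hy ((CohTop.pull i).obj F)) (op ⟨V, hV⟩))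
        (etaSec F t)))).trans ?_
  exact (phi_res hi.isInducing F _ (etaSec F t) z (Opens.mem_top z)).trans (phi_etaSec hi.isInducing F t z _)

variable (hfib : {x | f x ⤳ y} ⊆ Set.range i)
  (hnhd : ∀ U : Opens X, {x | f x ⤳ y} ⊆ (U : Set X) → ∃ V : Opens Y, y ∈ V ∧ (Opens.map f).obj V ≤ U)

include hnhd hfib in
theorem isIso_bcGen (hi : IsEmbedding i)
    (hext : ∀ (F : CohTop.Ab X) (φ : ∀ a : ({x | f x ⤳ y} : Set X), CohTop.stalk F a.1), IsLoc F φ → Extends F φ) :
    IsIso (bcGen i f y hy) := by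
  have : ∀ F, IsIso ((bcGen i f y hy).app F) := fun F => by
    rw [ConcreteCategory.isIso_iff_bijective]
    constructor
    · intro a b hab
      obtain ⟨V, hV, t, rfl⟩ := TopCat.Presheaf.exists_germ_eq (C := AddCommGrpCat.{u}) (X := Y)
        ((CohTop.push f).obj F).obj a
      obtain ⟨V', hV', t', rfl⟩ := TopCat.Presheaf.exists_germ_eq (C := AddCommGrpCat.{u}) (X := Y)
        ((CohTop.push f).obj F).obj b
      obtain ⟨M, h₁, h₂, hAM, e⟩ := exists_nhds_eq (F := F) (A := {x | f x ⤳ y})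
        (W := (Opens.map f).obj V) (W' := (Opens.map f).obj V')
        (fun x hx => show f x ∈ V from (hx : f x ⤳ y).mem_open V.2 hV)
        (fun x hx => show f x ∈ V' from (hx : f x ⤳ y).mem_open V'.2 hV') t t' fun x hx => by
          obtain ⟨z, rfl⟩ := hfib hx
          exact (phi_bcGen i f y hy hi F hV t z).symm.trans
            ((congrArg (fun s => phi hi.isInducing F s z (Opens.mem_top z)) hab).trans
              (phi_bcGen i f y hy hi F hV' t' z))
      obtain ⟨V'', hy'', hle⟩ := hnhd M hAM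
      let N : Opens Y := V'' ⊓ (V ⊓ V')
      have hN₁ : N ≤ V := inf_le_right.trans inf_le_left
      have hN₂ : N ≤ V' := inf_le_right.trans inf_le_right
      have hyN : y ∈ N := ⟨hy'', hV, hV'⟩
      have hNM : (Opens.map f).obj N ≤ M := fun x hx => hle (show f x ∈ V'' from hx.1)
      refine (gm_res ((CohTop.push f).obj F) hN₁ y hyN t).symm.trans ?_
      refine Eq.trans ?_ (gm_res ((CohTop.push f).obj F) hN₂ y hyN t')
      refine congrArg (gm ((CohTop.push f).obj F) y hyN) ?_
      have e' := congrArg (F.obj.map (homOfLE hNM).op).hom e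
      refine Eq.trans ?_ (e'.trans ?_)
      · exact ConcreteCategory.congr_hom (F.obj.map_comp (homOfLE h₁).op (homOfLE hNM).op) t
      · exact (ConcreteCategory.congr_hom (F.obj.map_comp (homOfLE h₂).op (homOfLE hNM).op) t').symm
    · intro s
      have key : ∀ x : ({x | f x ⤳ y} : Set X), ∃ v : CohTop.stalk F x.1, ∀ (z : Z) (e : i z = x.1),
          e ▸ phi hi.isInducing F s z (Opens.mem_top z) = v := by
        rintro ⟨x, hx⟩
        obtain ⟨z, rfl⟩ := hfib hx
        refine ⟨phi hi.isInducing F s z (Opens.mem_top z), fun z' e => ?_⟩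
        obtain rfl : z' = z := hi.injective e
        rfl
      choose ψ hψ using key
      obtain ⟨W, hW, t, ht⟩ := hext F ψ fun a => by
        obtain ⟨_, hx⟩ := a
        obtain ⟨z, rfl⟩ := hfib hx
        obtain ⟨U, hzU, t, -, ht⟩ := phi_loc hi.isInducing F s z (Opens.mem_top z)
        refine ⟨U, hzU, t, fun b hb => ?_⟩
        obtain ⟨_, hb'⟩ := b
        obtain ⟨z', rfl⟩ := hfib hb'
        exact (hψ ⟨i z', hb'⟩ z' rfl).symm.trans (ht z' hb (Opens.mem_top z'))
      obtain ⟨V, hV, hle⟩ := hnhd W hW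
      refine ⟨gm ((CohTop.push f).obj F) y hV ((F.obj.map (homOfLE hle).op).hom t),
        phi_ext hi.isInducing F _ _ fun z _ => ?_⟩
      refine (phi_bcGen i f y hy hi F hV _ z).trans ((gm_res F hle (i z) _ t).trans ?_)
      exact (ht ⟨i z, hy z⟩).symm.trans (hψ ⟨i z, hy z⟩ z rfl).symm
  exact NatIso.isIso_of_isIso_app _

end Fibre

variable {X : TopCat.{u}} [SpectralSpace X]

theorem hac_incl {A : Set X} (hA : IsCompact A) (hgen : StableUnderGeneralization A)
    (Q : CohTop.Ab X) [Injective Q] (n : ℕ) : Subsingleton (CohTop.H ((CohTop.pull (incl A)).obj Q) (n + 1)) :=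
  haveI := SiteBase.isFlasque_of_injective Q
  subsingleton_H_pull_flasque (isEmbedding_incl A) (by rwa [show Set.range (incl A) = A from Subtype.range_coe])
    (by rwa [show Set.range (incl A) = A from Subtype.range_coe]) Q n

theorem nonempty_colim_cohomology_nbhd {A : Set X} (hA : IsCompact A) (hgen : StableUnderGeneralization A)
    (F : CohTop.Ab X) (q : ℕ) :
    Nonempty (colimit ((Nbhd A).ι ⋙ (Sheaf.cohomologyPresheafFunctor (Opens.grothendieckTopology X) q).obj F) ≅
      AddCommGrpCat.of (CohTop.H ((CohTop.pull (incl A)).obj F) q)) := by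
  have : ∀ G, IsIso ((cmp (incl A) (fun z => z.2)).app G) := fun G =>
    (ConcreteCategory.isIso_iff_bijective _).2 (bijective_cmp (incl A) (fun z => z.2) (fun x hx => ⟨⟨x, hx⟩, rfl⟩)
      (isEmbedding_incl A) (fun _ φ hφ => extends_of_isLoc hA hgen φ hφ) G)
  have : IsIso (cmp (incl A) (fun z => z.2)) := NatIso.isIso_of_isIso_app _
  let E : ((Opens X)ᵒᵖ ⥤ AddCommGrpCat.{u}) ⥤ AddCommGrpCat.{u} :=
    (Functor.whiskeringLeft (Nbhd A).FullSubcategory (Opens X)ᵒᵖ AddCommGrpCat.{u}).obj (Nbhd A).ι ⋙ colim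
  have : (CohTop.pull (incl A)).Additive := additive_pull (incl A)
  have : (pullSec (incl A)).Additive := inferInstanceAs ((CohTop.pull (incl A) ⋙ DescentSS.secFun _ ⊤).Additive)
  exact ⟨(E.mapIso ((SiteBase.rightDerivedIsoCohomology q).app F)).symm ≪≫
    ((SiteBase.rightDerivedCompIso (sheafToPresheaf (Opens.grothendieckTopology X) AddCommGrpCat.{u}) E q).app F).symm ≪≫
    (SiteBase.rightDerivedCongr (asIso (cmp (incl A) (fun z => z.2))) q).app F ≪≫
    (nonempty_rightDerived_pullSec (incl A) (fun Q _ n => hac_incl hA hgen Q n) F q).some⟩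

/-- The generalisations of a compact subset. -/
theorem isCompact_generalizations {E : Set X} (hE : IsCompact E) :
    IsCompact {x : X | ∃ e ∈ E, e ∈ closure {x}} := by
  refine isCompact_of_finite_subcover fun U hU hcov => ?_
  obtain ⟨t, ht⟩ := hE.elim_finite_subcover U hU fun e he => hcov ⟨e, he, subset_closure rfl⟩
  refine ⟨t, fun x ⟨e, he, hex⟩ => ?_⟩
  exact (specializes_iff_mem_closure.2 hex).mem_open (isOpen_biUnion fun i _ => hU i) (ht he)

theorem stableUnderGeneralization_generalizations (E : Set X) :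
    StableUnderGeneralization {x : X | ∃ e ∈ E, e ∈ closure {x}} :=
  fun x y h ⟨e, he, hex⟩ => ⟨e, he, (h.trans (specializes_iff_mem_closure.2 hex)).mem_closure⟩

/-- Cohomology of the generalisations of a compact subset as a colimit over compact open neighbourhoods. -/
theorem nonempty_colim_cohomology_generalizations {E : Set X} (hE : IsCompact E) (F : CohTop.Ab X) (p : ℕ) :
    Nonempty ((colimit (ObjectProperty.ι (fun U : (Opens X)ᵒᵖ => E ⊆ (U.unop : Set X) ∧ IsCompact (U.unop : Set X)) ⋙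
        (Sheaf.cohomologyPresheafFunctor (Opens.grothendieckTopology X) p).obj F) : AddCommGrpCat.{u}) ≃+
      CohTop.H ((CohTop.pull (incl {x : X | ∃ e ∈ E, e ∈ closure {x}})).obj F) p) := by
  let G : Set X := {x : X | ∃ e ∈ E, e ∈ closure {x}}
  let P : ObjectProperty (Opens X)ᵒᵖ := fun U => E ⊆ (U.unop : Set X) ∧ IsCompact (U.unop : Set X)
  have hP : P ≤ Nbhd G := fun U hU x ⟨e, he, hex⟩ =>
    (specializes_iff_mem_closure.2 hex).mem_open U.unop.2 (hU.1 he)
  have : (ObjectProperty.ιOfLE hP).Final := by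
    have hex : ∀ d : (Nbhd G).FullSubcategory, ∃ c, Nonempty (d ⟶ (ObjectProperty.ιOfLE hP).obj c) := fun d => by
      obtain ⟨O, hO, hOd⟩ := exists_coNhd_subset hE d.obj.unop.2
        ((show E ⊆ G from fun e he => ⟨e, he, subset_closure rfl⟩).trans d.property)
      exact ⟨⟨op ⟨O, hO.1⟩, hO.2.2, hO.2.1⟩, ⟨ObjectProperty.homMk (homOfLE hOd).op⟩⟩
    exact Functor.final_of_exists_of_isFiltered_of_fullyFaithful _ hex
  obtain ⟨e⟩ := nonempty_colim_cohomology_nbhd (isCompact_generalizations hE)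
    (stableUnderGeneralization_generalizations E) F p
  exact ⟨((Functor.Final.colimitIso (ObjectProperty.ιOfLE hP) ((Nbhd G).ι ⋙
    (Sheaf.cohomologyPresheafFunctor (Opens.grothendieckTopology X) p).obj F)) ≪≫ e).addCommGroupIsoToAddEquiv⟩

/-- Stalks of higher direct images along spectral maps. -/
theorem nonempty_stalk_Rpush {Y : TopCat.{u}} [SpectralSpace Y] (f : X ⟶ Y) (hf : IsSpectralMap f) (y : Y)
    (F : CohTop.Ab X) (q : ℕ) :
    Nonempty (CohTop.stalk ((CohTop.Rpush f q).obj F) y ≅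
      AddCommGrpCat.of (CohTop.H ((CohTop.pull (incl {x : X | y ∈ closure {f x}})).obj F) q)) := by
  let S : Set X := {x | y ∈ closure {f x}}
  have hS : S = {x | f x ⤳ y} := Set.ext fun x => specializes_iff_mem_closure.symm
  let T : Set (Set X) := (fun O => f ⁻¹' O) '' coNhds ({y} : Set Y)
  have hT : ∀ O ∈ T, IsOpen O ∧ IsCompact O := by
    rintro _ ⟨O, hO, rfl⟩
    exact ⟨hO.1.preimage f.hom.continuous, hf.2 hO.1 hO.2.1⟩
  have hTS : ⋂₀ T = S := by
    refine Set.Subset.antisymm (fun x hx => ?_) ?_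
    · rw [hS]
      refine specializes_iff_forall_open.2 fun U hU hyU => ?_
      obtain ⟨O, ⟨hO, hOc⟩, hyO, hOU⟩ := (PrespectralSpace.isTopologicalBasis (X := Y)).exists_subset_of_mem_open hyU hU
      exact hOU (hx _ ⟨O, ⟨hO, hOc, Set.singleton_subset_iff.2 hyO⟩, rfl⟩)
    · rintro x hx _ ⟨O, hO, rfl⟩
      exact (specializes_iff_mem_closure.2 hx).mem_open hO.1 (hO.2.2 rfl)
  have hnhd : ∀ U : Opens X, S ⊆ (U : Set X) → ∃ V : Opens Y, y ∈ V ∧ (Opens.map f).obj V ≤ U := fun U hU => by
    obtain ⟨T', hT', hfin, hsub⟩ := exists_finite_sInter_inter_subset T hT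
      ⟨isOpen_univ, isCompact_univ⟩ U.2 (by rw [hTS, Set.inter_univ]; exact hU)
    obtain ⟨T'', hT'', hfin'', rfl⟩ := Set.exists_subset_image_finite_and.1 ⟨T', hT', hfin, rfl⟩
    obtain ⟨O, hO, hOT⟩ := exists_coNhd hT'' hfin''
    refine ⟨⟨O, hO.1⟩, hO.2.2 rfl, fun x hx => hsub ⟨?_, trivial⟩⟩
    rintro _ ⟨O', hO', rfl⟩
    exact hOT hx O' hO'
  have hScpt : IsCompact S := by
    refine isCompact_of_finite_subcover fun U hU hcov => ?_
    obtain ⟨V, hyV, hV⟩ := hnhd ⟨⋃ i, U i, isOpen_iUnion hU⟩ hcov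
    obtain ⟨O, hO, hOV⟩ := exists_coNhd_subset isCompact_singleton V.2 (Set.singleton_subset_iff.2 hyV)
    obtain ⟨t, ht⟩ := (hf.2 hO.1 hO.2.1).elim_finite_subcover U hU fun x hx => hV (hOV hx)
    exact ⟨t, fun x hx => ht ((specializes_iff_mem_closure.2 hx).mem_open hO.1 (hO.2.2 rfl))⟩
  have hSgen : StableUnderGeneralization S := fun x x' h hx =>
    ((h.map f.hom.continuous).trans (specializes_iff_mem_closure.2 hx)).mem_closure
  have hy : ∀ z, f (incl S z) ⤳ y := fun z => specializes_iff_mem_closure.2 z.2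
  have := isIso_bcGen (incl S) f y hy (by rw [← hS]; exact fun x hx => ⟨⟨x, hx⟩, rfl⟩)
    (by rw [← hS]; exact hnhd) (isEmbedding_incl S) (by rw [← hS]; exact fun _ φ hφ => extends_of_isLoc hScpt hSgen φ hφ)
  have : (CohTop.pull (incl S)).Additive := additive_pull (incl S)
  have : (pullSec (incl S)).Additive := inferInstanceAs ((CohTop.pull (incl S) ⋙ DescentSS.secFun _ ⊤).Additive)
  exact ⟨((SiteBase.rightDerivedCompIso (CohTop.push f) (ClosedEmb.stalkF y) q).app F).symm ≪≫
    (SiteBase.rightDerivedCongr (asIso (bcGen (incl S) f y hy)) q).app F ≪≫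
    (nonempty_rightDerived_pullSec (incl S) (fun Q _ n => hac_incl hScpt hSgen Q n) F q).some⟩

end Groth.Agent.SpectralSub
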