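import Mathlib.Topology.Spectral.ConstructibleTopology
import Mathlib.Topology.Spectral.Basic
import Mathlib.Topology.Sets.Opens

/-!
# Compact subsets of spectral spaces stable under generalisation
-/

set_option autoImplicit false

open TopologicalSpace Topology

namespace Groth.Agent.SpectralSub

variable {X : Type*} [TopologicalSpace X] [SpectralSpace X]

theorem compactSpace_constructible : @CompactSpace X (constructibleTopology X) := by
  refine @CompactSpace.mk X (constructibleTopology X) ?_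
  rw [← (WithTopology.ofTopology_surjective (t := constructibleTopology X)).range_eq]
  exact @isCompact_range _ _ _ (constructibleTopology X) _ _ (WithTopology.continuous_ofTopology _)

/-- An intersection of compact opens meeting a compact open inside an open is so already for a
finite subfamily. -/
theorem exists_finite_sInter_inter_subset (T : Set (Set X)) (hT : ∀ O ∈ T, IsOpen O ∧ IsCompact O)
    {C W : Set X} (hC : IsOpen C ∧ IsCompact C) (hW : IsOpen W) (h : ⋂₀ T ∩ C ⊆ W) :
    ∃ T' : Set (Set X), T' ⊆ T ∧ T'.Finite ∧ ⋂₀ T' ∩ C ⊆ W := by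
  classical
  have hopen : ∀ {s : Set X}, IsOpen s → IsOpen[constructibleTopology X] s := fun {s} hs => by
    obtain ⟨S, hS, rfl⟩ := (PrespectralSpace.isTopologicalBasis (X := X)).open_eq_sUnion hs
    exact @isOpen_sUnion X (constructibleTopology X) _ fun t ht => (hS ht).2.isOpen_constructibleTopology_of_isOpen (hS ht).1
  have hclosed : ∀ {s : Set X}, IsOpen s → IsCompact s → IsClosed[constructibleTopology X] s := fun {s} hs hs' =>
    @IsClosed.mk X (constructibleTopology X) s ((show IsCompact sᶜᶜ by rwa [compl_compl]).isOpen_constructibleTopology_of_isClosed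
      hs.isClosed_compl)
  have hK : IsClosed[constructibleTopology X] (C \ W) :=
    @IsClosed.inter X C Wᶜ (constructibleTopology X) (hclosed hC.1 hC.2) (@IsClosed.mk X (constructibleTopology X) _ (by rw [compl_compl]; exact hopen hW))
  have hKc : @IsCompact X (constructibleTopology X) (C \ W) :=
    @IsClosed.isCompact X (constructibleTopology X) _ (compactSpace_constructible (X := X)) hK
  obtain ⟨t, ht⟩ := @IsCompact.elim_finite_subfamily_closed X (constructibleTopology X) (C \ W) T hKc (fun O => (O.1 : Set X))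
    (fun O => hclosed (hT O.1 O.2).1 (hT O.1 O.2).2) (by
      refine Set.eq_empty_iff_forall_notMem.2 fun x hx => ?_
      exact hx.1.2 (h ⟨fun O hO => Set.mem_iInter.1 hx.2 ⟨O, hO⟩, hx.1.1⟩))
  refine ⟨Subtype.val '' (t : Set T), by rintro _ ⟨O, -, rfl⟩; exact O.2, t.finite_toSet.image _, fun x hx => ?_⟩
  by_contra hxW
  exact Set.eq_empty_iff_forall_notMem.1 ht x
    ⟨⟨hx.2, hxW⟩, Set.mem_iInter₂.2 fun O hO => hx.1 O.1 ⟨O, hO, rfl⟩⟩

/-- The compact opens containing a subset. -/
def coNhds (A : Set X) : Set (Set X) := {O | IsOpen O ∧ IsCompact O ∧ A ⊆ O}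

/-- A compact subset stable under generalisation is the intersection of the compact opens containing it. -/
theorem sInter_coNhds {A : Set X} (hA : IsCompact A) (hgen : StableUnderGeneralization A) :
    ⋂₀ coNhds A = A := by
  refine Set.Subset.antisymm (fun y hy => ?_) (Set.subset_sInter fun O hO => hO.2.2)
  by_contra hyA
  have key : ∀ a : A, ∃ O : Set X, IsOpen O ∧ IsCompact O ∧ a.1 ∈ O ∧ y ∉ O := fun a => by
    have hn : ¬ y ⤳ a.1 := fun hs => hyA (hgen hs a.2)
    obtain ⟨U, hU, haU, hyU⟩ := not_specializes_iff_exists_open.1 hn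
    obtain ⟨O, ⟨hO, hOc⟩, haO, hOU⟩ :=
      (PrespectralSpace.isTopologicalBasis (X := X)).exists_subset_of_mem_open haU hU
    exact ⟨O, hO, hOc, haO, fun h => hyU (hOU h)⟩
  choose O hO hOc haO hyO using key
  obtain ⟨s, hs⟩ := hA.elim_finite_subcover O hO fun a ha => Set.mem_iUnion.2 ⟨⟨a, ha⟩, haO _⟩
  have hmem := hy (⋃ a ∈ s, O a) ⟨isOpen_biUnion fun a _ => hO a, s.isCompact_biUnion fun a _ => hOc a, hs⟩
  obtain ⟨a, -, hay⟩ := Set.mem_iUnion₂.1 hmem
  exact hyO a hay

theorem exists_coNhd {A : Set X} {T : Set (Set X)} (hTA : T ⊆ coNhds A) (hT : T.Finite) :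
    ∃ O ∈ coNhds A, O ⊆ ⋂₀ T := by
  refine ⟨⋂₀ T, ⟨hT.isOpen_sInter fun O hO => (hTA hO).1, ?_, Set.subset_sInter fun O hO => (hTA hO).2.2⟩,
    subset_rfl⟩
  exact QuasiSeparatedSpace.isCompact_sInter hT (fun O hO => Or.inl (hTA hO).1) fun O hO => (hTA hO).2.1

theorem exists_coNhd_inter_subset {A : Set X} (hA : IsCompact A) (hgen : StableUnderGeneralization A)
    {C W : Set X} (hC : IsOpen C ∧ IsCompact C) (hW : IsOpen W) (h : A ∩ C ⊆ W) :
    ∃ O ∈ coNhds A, O ∩ C ⊆ W := by
  obtain ⟨T, hTA, hT, hTW⟩ := exists_finite_sInter_inter_subset (coNhds A) (fun O hO => ⟨hO.1, hO.2.1⟩) hC hW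
    (by rwa [sInter_coNhds hA hgen])
  obtain ⟨O, hO, hOT⟩ := exists_coNhd hTA hT
  exact ⟨O, hO, (Set.inter_subset_inter_left C hOT).trans hTW⟩

theorem exists_coNhd_subset {A W : Set X} (hA : IsCompact A) (hW : IsOpen W) (h : A ⊆ W) :
    ∃ O ∈ coNhds A, O ⊆ W := by
  have key : ∀ a : A, ∃ O : Set X, IsOpen O ∧ IsCompact O ∧ a.1 ∈ O ∧ O ⊆ W := fun a => by
    obtain ⟨O, ⟨hO, hOc⟩, haO, hOU⟩ :=
      (PrespectralSpace.isTopologicalBasis (X := X)).exists_subset_of_mem_open (h a.2) hW
    exact ⟨O, hO, hOc, haO, hOU⟩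
  choose O hO hOc haO hOW using key
  obtain ⟨s, hs⟩ := hA.elim_finite_subcover O hO fun a ha => Set.mem_iUnion.2 ⟨⟨a, ha⟩, haO _⟩
  exact ⟨⋃ a ∈ s, O a, ⟨isOpen_biUnion fun a _ => hO a, s.isCompact_biUnion fun a _ => hOc a, hs⟩,
    Set.iUnion₂_subset fun a _ => hOW a⟩

omit [SpectralSpace X] in
theorem stableUnderGeneralization_inter {A B : Set X} (hA : StableUnderGeneralization A)
    (hB : StableUnderGeneralization B) : StableUnderGeneralization (A ∩ B) :=
  fun _ _ h hx => ⟨hA h hx.1, hB h hx.2⟩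

theorem isCompact_inter {A B : Set X} (hA : IsCompact A) (hgA : StableUnderGeneralization A)
    (hB : IsCompact B) (hgB : StableUnderGeneralization B) : IsCompact (A ∩ B) := by
  refine isCompact_of_finite_subcover fun U hU hcov => ?_
  have h : ⋂₀ (coNhds A ∪ coNhds B) ∩ Set.univ ⊆ ⋃ i, U i := by
    rw [Set.sInter_union, sInter_coNhds hA hgA, sInter_coNhds hB hgB, Set.inter_univ]
    exact hcov
  obtain ⟨T, hT, hTfin, hTU⟩ := exists_finite_sInter_inter_subset (coNhds A ∪ coNhds B)
    (fun O hO => hO.elim (fun h => ⟨h.1, h.2.1⟩) (fun h => ⟨h.1, h.2.1⟩)) ⟨isOpen_univ, isCompact_univ⟩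
    (isOpen_iUnion hU) h
  have hTc : IsCompact (⋂₀ T) := QuasiSeparatedSpace.isCompact_sInter hTfin
    (fun O hO => Or.inl ((hT hO).elim (fun h => h.1) (fun h => h.1)))
    (fun O hO => (hT hO).elim (fun h => h.2.1) (fun h => h.2.1))
  obtain ⟨t, ht⟩ := hTc.elim_finite_subcover U hU fun x hx => hTU ⟨hx, trivial⟩
  refine ⟨t, fun x hx => ht fun O hO => ?_⟩
  exact (hT hO).elim (fun h => h.2.2 hx.1) (fun h => h.2.2 hx.2)

end Groth.Agent.SpectralSub
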