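import Groth.Agent.SiteBase.CompactSub.Colim
import Groth.Agent.SiteBase.SpectralSub.Topology

/-!
# Germ families on compact subsets of spectral spaces stable under generalisation extend
-/

set_option autoImplicit false
set_option linter.unusedSectionVars false
set_option backward.isDefEq.respectTransparency false

universe u

open CategoryTheory Opposite TopologicalSpace Topology
open Groth.Agent.DescentSS.Germ (gm gm_res)

noncomputable section

namespace Groth.Agent.SpectralSub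

open CompactSub

variable {X : TopCat.{u}} [SpectralSpace X] {F : CohTop.Ab X}

theorem extends_of_isLoc {A : Set X} (hA : IsCompact A) (hgen : StableUnderGeneralization A)
    (φ : ∀ a : A, CohTop.stalk F a.1) (hφ : IsLoc F φ) : Extends F φ := by
  classical
  choose W hW t ht using hφ
  have hC : ∀ a : A, ∃ O : Set X, IsOpen O ∧ IsCompact O ∧ a.1 ∈ O ∧ O ⊆ W a := fun a => by
    obtain ⟨O, ⟨hO, hOc⟩, haO, hOW⟩ :=
      (PrespectralSpace.isTopologicalBasis (X := X)).exists_subset_of_mem_open (hW a) (W a).2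
    exact ⟨O, hO, hOc, haO, hOW⟩
  choose C hCo hCc haC hCW using hC
  obtain ⟨s, hs⟩ := hA.elim_finite_subcover C hCo fun a ha => Set.mem_iUnion.2 ⟨⟨a, ha⟩, haC _⟩
  suffices H : ∀ s : Finset A, ∃ (W' : Opens X) (_ : IsCompact (W' : Set X))
      (hW' : ∀ b : A, b.1 ∈ ⋃ a ∈ s, C a → b.1 ∈ W') (t' : F.obj.obj (op W')),
      ∀ (b : A) (hb : b.1 ∈ W'), φ b = gm F b.1 hb t' by
    obtain ⟨W', -, hW', t', ht'⟩ := H s
    exact ⟨W', fun x hx => hW' ⟨x, hx⟩ (hs hx), t', fun b => ht' b _⟩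
  intro s
  induction s using Finset.induction with
  | empty =>
    exact ⟨⊥, isCompact_empty, fun b hb => (by simp at hb), 0, fun b hb => absurd hb (fun h => h)⟩
  | insert a s ha ih =>
    obtain ⟨W', hWc, hW', t', ht'⟩ := ih
    let C₁ : Opens X := ⟨C a, hCo a⟩
    have hle : C₁ ≤ W a := hCW a
    let t₁ := (F.obj.map (homOfLE hle).op).hom (t a)
    let M : Set X := {y : X | ∃ (hy : y ∈ C₁) (hy' : y ∈ W'), gm F y hy t₁ = gm F y hy' t'}
    have hM : IsOpen M := isOpen_eqLocus t₁ t'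
    have hAM : A ∩ ((C₁ : Set X) ∩ W') ⊆ M := fun x hx => by
      refine ⟨hx.2.1, hx.2.2, ?_⟩
      exact (gm_res F _ x hx.2.1 (t a)).trans ((ht a ⟨x, hx.1⟩ (hCW a hx.2.1)).symm.trans (ht' ⟨x, hx.1⟩ hx.2.2))
    obtain ⟨O, hO, hOM⟩ := exists_coNhd_inter_subset hA hgen
      ⟨(hCo a).inter W'.2, QuasiSeparatedSpace.inter_isCompact _ _ (hCo a) (hCc a) W'.2 hWc⟩ hM hAM
    let O' : Opens X := ⟨O, hO.1⟩
    obtain ⟨u, hu₁, hu₂⟩ := exists_glue₂
      ((F.obj.map (homOfLE (inf_le_right : O' ⊓ C₁ ≤ C₁)).op).hom t₁)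
      ((F.obj.map (homOfLE (inf_le_right : O' ⊓ W' ≤ W')).op).hom t')
      (fun x h₁ h₂ => by
        refine (gm_res F inf_le_right x h₁ t₁).trans (Eq.trans ?_ (gm_res F inf_le_right x h₂ t').symm)
        exact (hOM ⟨h₁.1, h₁.2, h₂.2⟩).2.2)
    refine ⟨O' ⊓ C₁ ⊔ O' ⊓ W', ?_, fun b hb => ?_, u, fun b hb => ?_⟩
    · exact IsCompact.union (QuasiSeparatedSpace.inter_isCompact _ _ hO.1 hO.2.1 (hCo a) (hCc a))
        (QuasiSeparatedSpace.inter_isCompact _ _ hO.1 hO.2.1 W'.2 hWc)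
    · rw [Finset.set_biUnion_insert] at hb
      exact hb.elim (fun h => Or.inl ⟨hO.2.2 b.2, h⟩) (fun h => Or.inr ⟨hO.2.2 b.2, hW' b h⟩)
    · rcases hb with hb | hb
      · exact (ht a b (hCW a hb.2)).trans ((gm_res F _ b.1 hb.2 (t a)).symm.trans
          ((gm_res F inf_le_right b.1 hb t₁).symm.trans (hu₁ b.1 hb).symm))
      · exact (ht' b hb.2).trans ((gm_res F inf_le_right b.1 hb t').symm.trans (hu₂ b.1 hb).symm)

end Groth.Agent.SpectralSub
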